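import Groth.Prelude.Def_Coh
import Groth.Prelude.Def_FlatMod2
import Groth.Agent.FTDescent.Basic
import Groth.Agent.KFlatLib.Scheme.PullTensor
import Groth.Agent.FDescent.StalkFinite
import Mathlib.AlgebraicGeometry.Morphisms.Flat
import Mathlib.RingTheory.Finiteness.Descent

/-!
# Finite type modules descend along flat surjective quotient maps
-/

set_option autoImplicit false
set_option linter.style.haveILetI false
set_option backward.isDefEq.respectTransparency false
set_option backward.isDefEq.respectTransparency.types false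

universe u

open CategoryTheory CategoryTheory.Limits AlgebraicGeometry Opposite TopologicalSpace
open scoped TensorProduct

namespace Groth.Agent.FTDescent

variable {X Y : Scheme.{u}}

/-- Finite type descends along flat surjective quotient maps. -/
theorem isFiniteType_of_pullback_quotient (f : X ⟶ Y) [Flat f] [Surjective f]
    (hf : Topology.IsQuotientMap f.base) (F : Y.Modules)
    (h : SheafOfModules.IsFiniteType (R := X.ringCatSheaf) ((Scheme.Modules.pullback f).obj F)) :
    SheafOfModules.IsFiniteType (R := Y.ringCatSheaf) F := by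
  let N := (Scheme.Modules.pullback f).obj F
  let e := fun x => ((KFlatLib.stalkPullbackIso f x).app F).toLinearEquiv
  have key : ∀ (x : X) {V : Y.Opens} (hx : f.base x ∈ V) (t : Γ(F, V)),
      e x (N.presheaf.germ (f ⁻¹ᵁ V) x hx (KFlatLib.pb f t)) =
        KFlatLib.u1 (f.stalkMap x).hom ((DerSch.stalkFunctor Y (f.base x)).obj F)
          (F.presheaf.germ V (f.base x) hx t) :=
    fun x V hx t => KFlatLib.stalkPullbackIso_gm f x F V hx t
  have hloc : ∀ y : Y, ∃ V : Y.Opens, y ∈ V ∧
      ∃ G : (SheafOfModules.over F V).GeneratingSections, G.IsFiniteType := by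
    intro y
    obtain ⟨x, rfl⟩ := f.surjective y
    haveI : Module.Finite (X.presheaf.stalk x) ((DerSch.stalkFunctor X x).obj N) := FDescent.finite_stalk N x
    haveI : Module.Finite (X.presheaf.stalk x) ((Scheme.Modules.pullback f ⋙ DerSch.stalkFunctor X x).obj F) :=
      inferInstanceAs (Module.Finite (X.presheaf.stalk x) ((DerSch.stalkFunctor X x).obj N))
    haveI := finite_of_extend (f.stalkMap x) (Flat.stalkMap f x)
      (M := (DerSch.stalkFunctor Y (f.base x)).obj F) (Module.Finite.equiv (e x))
    obtain ⟨n, g, hg⟩ := Module.Finite.exists_fin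
      (R := Y.presheaf.stalk (f.base x)) (M := (DerSch.stalkFunctor Y (f.base x)).obj F)
    choose V hV t ht using fun i => TopCat.Presheaf.germ_exist F.presheaf (g i)
    let V₀ : Y.Opens := Finset.univ.inf V
    have hx₀ : f.base x ∈ V₀ := by
      show f.base x ∈ ((Finset.univ.inf V : Y.Opens) : Set Y)
      simp [TopologicalSpace.Opens.coe_finset_inf, hV]
    let k : ∀ i, V₀ ⟶ V i := fun i => homOfLE (Finset.inf_le (Finset.mem_univ i))
    let t₀ : Fin n → Γ(F, V₀) := fun i => F.presheaf.map (k i).op (t i)
    have hg₀ : ∀ i, F.presheaf.germ V₀ (f.base x) hx₀ (t₀ i) = g i :=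
      fun i => (germ_res' F (k i) hx₀ (t i)).trans (ht i)
    let w : Fin n → Γ(N, f ⁻¹ᵁ V₀) := fun i => KFlatLib.pb f (t₀ i)
    have hw : Submodule.span (X.presheaf.stalk x)
        (Set.range fun i => N.presheaf.germ (f ⁻¹ᵁ V₀) x hx₀ (w i)) = ⊤ := by
      refine Submodule.map_injective_of_injective (f := (e x).toLinearMap) (e x).injective ?_
      rw [Submodule.map_top, LinearMap.range_eq_top.2 (e x).surjective, Submodule.map_span, ← Set.range_comp]
      rw [show ((e x).toLinearMap ∘ fun i => N.presheaf.germ (f ⁻¹ᵁ V₀) x hx₀ (w i)) =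
        fun i => KFlatLib.u1 (f.stalkMap x).hom ((DerSch.stalkFunctor Y (f.base x)).obj F) (g i) from
        funext fun i => (key x hx₀ (t₀ i)).trans (congrArg _ (hg₀ i))]
      exact span_extend_eq_top (f.stalkMap x) g hg
    let spanAt : Y → Prop := fun z => ∃ hz : z ∈ V₀, Submodule.span (Y.presheaf.stalk z)
      (Set.range fun i => F.presheaf.germ V₀ z hz (t₀ i)) = ⊤
    have up : ∀ (z : X) (hz : f.base z ∈ V₀), Submodule.span (Y.presheaf.stalk (f.base z))
        (Set.range fun i => F.presheaf.germ V₀ (f.base z) hz (t₀ i)) = ⊤ →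
        Submodule.span (X.presheaf.stalk z) (Set.range fun i => N.presheaf.germ (f ⁻¹ᵁ V₀) z hz (w i)) = ⊤ := by
      intro z hz hs
      refine Submodule.map_injective_of_injective (f := (e z).toLinearMap) (e z).injective ?_
      rw [Submodule.map_top, LinearMap.range_eq_top.2 (e z).surjective, Submodule.map_span, ← Set.range_comp]
      rw [show ((e z).toLinearMap ∘ fun i => N.presheaf.germ (f ⁻¹ᵁ V₀) z hz (w i)) =
        fun i => KFlatLib.u1 (f.stalkMap z).hom ((DerSch.stalkFunctor Y (f.base z)).obj F)
          (F.presheaf.germ V₀ (f.base z) hz (t₀ i)) from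
        funext fun i => key z hz (t₀ i)]
      exact span_extend_eq_top (f.stalkMap z) _ hs
    have hopen : IsOpen {z | spanAt z} := by
      refine hf.isOpen_preimage.1 (isOpen_iff_forall_mem_open.2 ?_)
      rintro z ⟨hz, hs⟩
      obtain ⟨U, hle, hzU, hU⟩ := exists_nhd_span_eq_top N w hz (up z hz hs)
      refine ⟨U, fun x' hx' => ⟨hle hx', ?_⟩, U.2, hzU⟩
      refine span_eq_top_of_extend (f.stalkMap x') (Flat.stalkMap f x')
        (M := (DerSch.stalkFunctor Y (f.base x')).obj F) _ ?_
      have := congrArg (Submodule.map (e x').toLinearMap) (hU x' hx')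
      rw [Submodule.map_top, LinearMap.range_eq_top.2 (e x').surjective, Submodule.map_span, ← Set.range_comp] at this
      rw [← this]
      exact congrArg (fun q => Submodule.span _ (Set.range q)) (funext fun i => (key x' (hle hx') (t₀ i)).symm)
    let V' : Y.Opens := ⟨{z | spanAt z}, hopen⟩
    have hV' : V' ≤ V₀ := fun z hz => hz.1
    have hspan : ∀ (y : Y) (hy : y ∈ V'), Submodule.span (Y.presheaf.stalk y)
        (Set.range fun i => F.presheaf.germ V' y hy (F.presheaf.map (homOfLE hV').op (t₀ i))) = ⊤ := by
      intro y hy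
      simp only [germ_res']
      exact hy.2
    have hxV' : f.base x ∈ V' := ⟨hx₀, by
      refine span_eq_top_of_extend (f.stalkMap x) (Flat.stalkMap f x)
        (M := (DerSch.stalkFunctor Y (f.base x)).obj F) _ ?_
      have := congrArg (Submodule.map (e x).toLinearMap) hw
      rw [Submodule.map_top, LinearMap.range_eq_top.2 (e x).surjective, Submodule.map_span, ← Set.range_comp] at this
      rw [← this]
      exact congrArg (fun q => Submodule.span _ (Set.range q)) (funext fun i => (key x hx₀ (t₀ i)).symm)⟩
    obtain ⟨G, hG, -⟩ := exists_generatingSections F (fun i => F.presheaf.map (homOfLE hV').op (t₀ i)) hspan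
    exact ⟨V', hxV', G, hG⟩
  choose V hV G hG using hloc
  let q : SheafOfModules.LocalGeneratorsData.{u} (R := Y.ringCatSheaf) F :=
    { I := Y, X := V,
      coversTop := (Opens.coversTop_iff _ V).2 (top_le_iff.1 fun y _ => Opens.mem_iSup.2 ⟨y, hV y⟩),
      generators := G }
  have hq : q.IsFiniteType := by
    constructor
    exact hG
  constructor
  exact ⟨q, hq⟩

end Groth.Agent.FTDescent
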